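import Groth.Prelude.Def_RelSpec

/-!
# `π_* O_{Spec A} ≅ A` for the relative spectrum of a quasi-coherent algebra
-/

set_option autoImplicit false
universe u

open CategoryTheory AlgebraicGeometry TopologicalSpace Opposite

namespace Groth.Agent.Lib.RelSpecBasics.Gamma

noncomputable section

variable {S : Scheme.{u}} (A : RelSpec.QCAlg S)

/-- Over an affine open the comparison map is an isomorphism. -/
theorem isIso_gammaAff (U : S.Opens) (hU : IsAffineOpen U) : IsIso (A.gammaAff U hU) := by
  have h1 : IsIso ((A.ι U hU).app (A.π ⁻¹ᵁ U)) :=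
    (A.ι U hU).isIso_app _ (A.π_preimage U hU).le
  have h2 : (A.ι U hU) ⁻¹ᵁ (A.π ⁻¹ᵁ U) = ⊤ := top_le_iff.mp (A.top_le_preimage U hU)
  have h3 : IsIso ((Spec (A.presheaf.obj (op U))).presheaf.map
      (homOfLE (A.top_le_preimage U hU)).op) := by
    have : IsIso (homOfLE (A.top_le_preimage U hU)) := ⟨homOfLE h2.le, rfl, rfl⟩
    infer_instance
  unfold RelSpec.QCAlg.gammaAff Scheme.Hom.appLE
  infer_instance

/-- `gammaMap` is an isomorphism. -/
theorem isIso_gammaMap : IsIso A.gammaMap := by
  let F : Sheaf (Opens.grothendieckTopology S) CommRingCat.{u} :=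
    (TopCat.Sheaf.pushforward CommRingCat.{u} A.π.base).obj A.spec.sheaf
  let G : Sheaf (Opens.grothendieckTopology S) CommRingCat.{u} := ⟨A.presheaf, A.isSheaf⟩
  let α : F ⟶ G := ⟨A.gammaMap⟩
  have hα : IsIso α := by
    apply Functor.IsCoverDense.iso_of_restrict_iso (G := Scheme.AffineZariskiSite.toOpensFunctor S)
      (α := α)
    change IsIso ((Scheme.AffineZariskiSite.toOpensFunctor S).op.whiskerLeft A.gammaMap)
    rw [A.gammaMap_restrict]
    have : ∀ U, IsIso (A.gammaRestrict.app U) := fun U ↦ isIso_gammaAff A U.unop.1 U.unop.2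
    exact NatIso.isIso_of_isIso_app _
  exact (sheafToPresheaf (Opens.grothendieckTopology S) CommRingCat.{u}).map_isIso α

end

end Groth.Agent.Lib.RelSpecBasics.Gamma
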