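import Groth.Prelude.Def_RelSpec2
import Groth.Agent.Lib.QCoh.Sections
import Groth.Agent.Lib.QCoh.Stalk
import Groth.Agent.Lib.Modules.ToSheaf

/-!
# Modules over a quasi-coherent algebra: `toOS` and `dirImg`

* `toOS` is faithful, reflects isomorphisms, preserves and reflects colimits;
* `dirImg_preservesColimit` (affine morphisms, quasi-coherent diagrams);
* `dirImg_map_bijective`: for `f` affine, morphisms out of a quasi-coherent module are morphisms of
  the direct images over `f_* O_X`.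
-/

set_option autoImplicit false
set_option linter.style.haveILetI false
universe w w' u

open CategoryTheory Limits AlgebraicGeometry Opposite TopologicalSpace

namespace Groth.Agent.Lib.RelSpecBasics.DirImg

open QCoh.Localizing Modules.Stalk

noncomputable section

variable {S X : Scheme.{u}} (B : RelSpec.QCAlg S)

/-- `toOS` followed by the underlying abelian sheaf is the underlying abelian sheaf. -/
def toOSCompToSheaf :
    AMod.toOS B ⋙ SheafOfModules.toSheaf S.ringCatSheaf ≅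
      SheafOfModules.toSheaf (AMod.ringSheaf B) :=
  Iso.refl _

instance toOS_faithful : (AMod.toOS B).Faithful :=
  Functor.Faithful.of_comp_iso (toOSCompToSheaf B)

instance toOS_reflectsIsomorphisms : (AMod.toOS B).ReflectsIsomorphisms :=
  haveI : (AMod.toOS B ⋙ SheafOfModules.toSheaf S.ringCatSheaf).ReflectsIsomorphisms :=
    inferInstanceAs (SheafOfModules.toSheaf (AMod.ringSheaf B)).ReflectsIsomorphisms
  reflectsIsomorphisms_of_comp (AMod.toOS B) (SheafOfModules.toSheaf S.ringCatSheaf)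

instance toOS_preservesColimitsOfShape (K : Type w) [Category.{w'} K]
    [HasColimitsOfShape K AddCommGrpCat.{u}] [HasColimitsOfShape K S.Modules] :
    PreservesColimitsOfShape K (AMod.toOS B) :=
  haveI : HasColimitsOfShape K (SheafOfModules.{u} S.ringCatSheaf) :=
    inferInstanceAs (HasColimitsOfShape K S.Modules)
  haveI : HasColimitsOfShape K
      (Sheaf (Opens.grothendieckTopology S.carrier) AddCommGrpCat.{u}) := inferInstance
  haveI : PreservesColimitsOfShape K (SheafOfModules.toSheaf.{u} S.ringCatSheaf) := inferInstance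
  haveI : (SheafOfModules.toSheaf.{u} S.ringCatSheaf).ReflectsIsomorphisms := inferInstance
  let G : S.Modules ⥤ Sheaf (Opens.grothendieckTopology S.carrier) AddCommGrpCat.{u} :=
    SheafOfModules.toSheaf.{u} S.ringCatSheaf
  haveI : ReflectsColimitsOfShape K G :=
    (reflectsColimitsOfShape_of_reflectsIsomorphisms :
      ReflectsColimitsOfShape K (SheafOfModules.toSheaf.{u} S.ringCatSheaf))
  haveI : PreservesColimitsOfShape K (AMod.toOS B ⋙ G) :=
    preservesColimitsOfShape_of_natIso (toOSCompToSheaf B).symm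
  preservesColimitsOfShape_of_reflects_of_preserves (AMod.toOS B) G

variable (f : X ⟶ S) [IsAffineHom f]

/-- For `f` affine, `dirImg` preserves colimits of quasi-coherent modules. -/
theorem dirImg_preservesColimit {J : Type w} [Category.{w'} J]
    [∀ R : CommRingCat.{u}, HasColimitsOfShape J (ModuleCat.{u} R)]
    [∀ R : CommRingCat.{u},
      PreservesColimitsOfShape J (forget₂ (ModuleCat.{u} R) AddCommGrpCat.{u})]
    [HasColimitsOfShape J AddCommGrpCat.{u}] [HasColimitsOfShape J S.Modules]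
    [HasColimitsOfShape J (AMod (RelSpec.QCAlg.directImage f))]
    (D : J ⥤ X.Modules) (hD : ∀ j, (D.obj j).IsQuasicoherent) :
    PreservesColimit D (AMod.dirImg f) := by
  haveI : PreservesColimit D (AMod.dirImg f ⋙ AMod.toOS (RelSpec.QCAlg.directImage f)) := by
    rw [AMod.toOS_dirImg]
    exact QCoh.Sections.pushforward_preservesColimit f D hD
  haveI : ReflectsColimitsOfShape J (AMod.toOS (RelSpec.QCAlg.directImage f)) :=
    reflectsColimitsOfShape_of_reflectsIsomorphisms
  exact ⟨fun {c} hc ↦ ⟨isColimitOfReflects (AMod.toOS (RelSpec.QCAlg.directImage f))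
    (isColimitOfPreserves (AMod.dirImg f ⋙ AMod.toOS (RelSpec.QCAlg.directImage f)) hc)⟩⟩

/-- `dirImg` of an epimorphism of quasi-coherent modules is an epimorphism. -/
theorem epi_dirImg_map {F G : X.Modules} [F.IsQuasicoherent] [G.IsQuasicoherent] (v : F ⟶ G)
    [Epi v] : Epi ((AMod.dirImg f).map v) :=
  (AMod.toOS (RelSpec.QCAlg.directImage f)).epi_of_epi_map
    (show Epi ((Scheme.Modules.pushforward f).map v) from QCoh.Sections.epi_pushforward_map f v)

section Hom

variable {f} {F G : X.Modules} (v : (AMod.dirImg f).obj F ⟶ (AMod.dirImg f).obj G)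

/-- The components of a morphism of direct images. -/
def comp (U : S.Opens) : Γ(F, f ⁻¹ᵁ U) →+ Γ(G, f ⁻¹ᵁ U) := (v.val.app (op U)).hom.toAddMonoidHom

lemma comp_smul (U : S.Opens) (r : Γ(X, f ⁻¹ᵁ U)) (a : Γ(F, f ⁻¹ᵁ U)) :
    comp v U (r • a) = r • comp v U a :=
  (v.val.app (op U)).hom.map_smul r a

lemma comp_res {U V : S.Opens} (h : V ≤ U) (a : Γ(F, f ⁻¹ᵁ U)) :
    comp v V (res F (f.preimage_mono h) a) = res G (f.preimage_mono h) (comp v U a) :=
  (PresheafOfModules.naturality_apply v.val (homOfLE h).op a)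

/-- Germ-wise graph of the morphism of modules attached to `v`. -/
def Rel (x : X) (z : F.presheaf.stalk x) (w : G.presheaf.stalk x) : Prop :=
  ∃ (U : S.Opens) (_ : IsAffineOpen U) (hx : x ∈ f ⁻¹ᵁ U) (r : Γ(X, f ⁻¹ᵁ U))
    (a : Γ(F, f ⁻¹ᵁ U)), x ∈ X.basicOpen r ∧
      X.presheaf.germ _ x hx r • z = F.presheaf.germ _ x hx a ∧
      X.presheaf.germ _ x hx r • w = G.presheaf.germ _ x hx (comp v U a)

variable [F.IsQuasicoherent]

lemma exists_rel (x : X) (z : F.presheaf.stalk x) : ∃ w, Rel v x z w := by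
  obtain ⟨U, hU, hxU, -⟩ := exists_isAffineOpen_mem_and_subset (U := ⊤) (x := f x) trivial
  obtain ⟨r, a, hr, ha⟩ := QCoh.Stalk.exists_smul_eq_germ F (hU.preimage f) hxU z
  obtain ⟨c, hc⟩ := ((RingedSpace.mem_basicOpen _ r x hxU).mp hr).exists_right_inv
  exact ⟨c • G.presheaf.germ _ x hxU (comp v U a), U, hU, hxU, r, a, hr, ha,
    by rw [smul_smul, hc, one_smul]⟩

omit [F.IsQuasicoherent] in
lemma rel_of_le {x : X} {z : F.presheaf.stalk x} {w : G.presheaf.stalk x}
    {U : S.Opens} {hx : x ∈ f ⁻¹ᵁ U} {r : Γ(X, f ⁻¹ᵁ U)} {a : Γ(F, f ⁻¹ᵁ U)}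
    (hr : x ∈ X.basicOpen r)
    (h₁ : X.presheaf.germ _ x hx r • z = F.presheaf.germ _ x hx a)
    (h₂ : X.presheaf.germ _ x hx r • w = G.presheaf.germ _ x hx (comp v U a))
    {V : S.Opens} (hVU : V ≤ U) (hxV : x ∈ f ⁻¹ᵁ V) :
    x ∈ X.basicOpen (resR (f.preimage_mono hVU) r) ∧
      X.presheaf.germ _ x hxV (resR (f.preimage_mono hVU) r) • z =
        F.presheaf.germ _ x hxV (res F (f.preimage_mono hVU) a) ∧
      X.presheaf.germ _ x hxV (resR (f.preimage_mono hVU) r) • w =
        G.presheaf.germ _ x hxV (comp v V (res F (f.preimage_mono hVU) a)) := by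
  refine ⟨by rw [Scheme.basicOpen_res]; exact ⟨hxV, hr⟩, ?_, ?_⟩
  · rwa [TopCat.Presheaf.germ_res_apply, TopCat.Presheaf.germ_res_apply]
  · rwa [comp_res v hVU, TopCat.Presheaf.germ_res_apply, TopCat.Presheaf.germ_res_apply]

lemma rel_unique {x : X} {z : F.presheaf.stalk x} {w w' : G.presheaf.stalk x}
    (h : Rel v x z w) (h' : Rel v x z w') : w = w' := by
  obtain ⟨U₁, hU₁, hx₁, r₁, a₁, hr₁, hz₁, hw₁⟩ := h
  obtain ⟨U₂, hU₂, hx₂, r₂, a₂, hr₂, hz₂, hw₂⟩ := h'
  obtain ⟨V, hV, hxV, hVU⟩ :=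
    exists_isAffineOpen_mem_and_subset (U := U₁ ⊓ U₂) (x := f x) ⟨hx₁, hx₂⟩
  have hVU₁ : V ≤ U₁ := le_trans (fun _ h ↦ hVU h) inf_le_left
  have hVU₂ : V ≤ U₂ := le_trans (fun _ h ↦ hVU h) inf_le_right
  obtain ⟨hs₁, hzs₁, hws₁⟩ := rel_of_le v hr₁ hz₁ hw₁ hVU₁ hxV
  obtain ⟨hs₂, hzs₂, hws₂⟩ := rel_of_le v hr₂ hz₂ hw₂ hVU₂ hxV
  generalize resR (f.preimage_mono hVU₁) r₁ = s₁ at hs₁ hzs₁ hws₁
  generalize res F (f.preimage_mono hVU₁) a₁ = b₁ at hzs₁ hws₁
  generalize resR (f.preimage_mono hVU₂) r₂ = s₂ at hs₂ hzs₂ hws₂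
  generalize res F (f.preimage_mono hVU₂) a₂ = b₂ at hzs₂ hws₂
  obtain ⟨q, hq, hq0⟩ := (QCoh.Stalk.germ_eq_zero_iff F (hV.preimage f) hxV
    (s₂ • b₁ - s₁ • b₂)).mp (by
      rw [map_sub, Modules.StalkModule.germ_smul, Modules.StalkModule.germ_smul, ← hzs₁, ← hzs₂,
        smul_smul, smul_smul, mul_comm, sub_self])
  have h0 := congr(G.presheaf.germ _ x hxV (comp v V $hq0))
  rw [map_zero, map_zero, comp_smul, map_sub, comp_smul, comp_smul,
    Modules.StalkModule.germ_smul, map_sub, Modules.StalkModule.germ_smul,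
    Modules.StalkModule.germ_smul, ← hws₁, ← hws₂, smul_smul, smul_smul] at h0
  rw [((RingedSpace.mem_basicOpen _ q x hxV).mp hq).smul_eq_zero, sub_eq_zero,
    mul_comm (X.presheaf.germ _ x hxV s₂),
    (((RingedSpace.mem_basicOpen _ s₁ x hxV).mp hs₁).mul
      ((RingedSpace.mem_basicOpen _ s₂ x hxV).mp hs₂)).smul_left_cancel] at h0
  exact h0

/-- The stalk map attached to `v`. -/
def stalkVal (x : X) (z : F.presheaf.stalk x) : G.presheaf.stalk x := (exists_rel v x z).choose

lemma stalkVal_eq {x : X} {z : F.presheaf.stalk x} {w : G.presheaf.stalk x} (h : Rel v x z w) :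
    stalkVal v x z = w :=
  rel_unique v (exists_rel v x z).choose_spec h

lemma exists_section {W : X.Opens} (s : Γ(F, W)) :
    ∃ t : Γ(G, W), ∀ (x : X) (hx : x ∈ W),
      G.presheaf.germ W x hx t = stalkVal v x (F.presheaf.germ W x hx s) := by
  have loc (x : W) : ∃ (V : X.Opens) (_ : x.1 ∈ V) (hV : V ≤ W) (t : Γ(G, V)),
      ∀ (y : X) (hy : y ∈ V),
        G.presheaf.germ V y hy t = stalkVal v y (F.presheaf.germ W y (hV hy) s) := by
    obtain ⟨U, hU, hxU, -⟩ := exists_isAffineOpen_mem_and_subset (U := ⊤) (x := f x.1) trivial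
    obtain ⟨g, hgW, hxg⟩ := (hU.preimage f).exists_basicOpen_le ⟨x.1, x.2⟩ hxU
    obtain ⟨n, a, ha⟩ :=
      (localizes_of_isAffineOpen F (hU.preimage f) g).ext' (res F hgW s)
    obtain ⟨c, hc⟩ : ∃ c : Γ(X, X.basicOpen g), resR (X.basicOpen_le g) g ^ n * c = 1 :=
      IsUnit.exists_right_inv ((RingedSpace.isUnit_res_basicOpen X.toRingedSpace g).pow n)
    refine ⟨X.basicOpen g, hxg, hgW, c • res G (X.basicOpen_le g) (comp v U a),
      fun y hy ↦ (stalkVal_eq v ⟨U, hU, X.basicOpen_le g hy, g ^ n, a, ?_, ?_, ?_⟩).symm⟩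
    · rcases Nat.eq_zero_or_pos n with rfl | hn
      · rw [pow_zero, Scheme.basicOpen_of_isUnit X isUnit_one]
        exact X.basicOpen_le g hy
      · rwa [Scheme.basicOpen_pow X g hn]
    · rw [← TopCat.Presheaf.germ_res_apply F.presheaf (homOfLE hgW) y hy s,
        ← TopCat.Presheaf.germ_res_apply F.presheaf (homOfLE (X.basicOpen_le g)) y hy a,
        ← TopCat.Presheaf.germ_res_apply X.presheaf (homOfLE (X.basicOpen_le g)) y hy (g ^ n)]
      change _ = F.presheaf.germ _ y hy (res F (X.basicOpen_le g) a)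
      rw [ha, Modules.StalkModule.germ_smul, map_pow]
    · rw [← TopCat.Presheaf.germ_res_apply G.presheaf (homOfLE (X.basicOpen_le g)) y hy (comp v U a),
        ← TopCat.Presheaf.germ_res_apply X.presheaf (homOfLE (X.basicOpen_le g)) y hy (g ^ n),
        ← Modules.StalkModule.germ_smul, smul_smul]
      change G.presheaf.germ _ y hy
        ((resR (X.basicOpen_le g) (g ^ n) * c) • res G (X.basicOpen_le g) (comp v U a)) = _
      rw [show resR (X.basicOpen_le g) (g ^ n) = resR (X.basicOpen_le g) g ^ n from map_pow _ _ _,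
        hc, one_smul]
  choose V hxV hVW t ht using loc
  have hcov : W ≤ ⨆ x, V x := fun x hx ↦ Opens.mem_iSup.mpr ⟨⟨x, hx⟩, hxV _⟩
  obtain ⟨T, hT, -⟩ := TopCat.Sheaf.existsUnique_gluing' ⟨_, G.isSheaf⟩ V W
    (fun x ↦ homOfLE (hVW x)) hcov t (fun x y ↦ TopCat.Presheaf.section_ext
      ⟨G.presheaf, G.isSheaf⟩ _ _ _ fun p hp ↦ by
      change G.presheaf.germ _ p hp (res G inf_le_left _) =
        G.presheaf.germ _ p hp (res G inf_le_right _)
      erw [TopCat.Presheaf.germ_res_apply, TopCat.Presheaf.germ_res_apply]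
      rw [ht, ht])
  refine ⟨T, fun x hx ↦ ?_⟩
  rw [← ht ⟨x, hx⟩ x (hxV _), ← show res G (hVW ⟨x, hx⟩) T = t ⟨x, hx⟩ from hT ⟨x, hx⟩]
  exact (TopCat.Presheaf.germ_res_apply G.presheaf (homOfLE (hVW ⟨x, hx⟩)) x (hxV _) T).symm

omit [F.IsQuasicoherent] in
lemma section_ext_of_germ {M : X.Modules} {W : X.Opens} {s t : Γ(M, W)}
    (h : ∀ (x : X) (hx : x ∈ W), M.presheaf.germ W x hx s = M.presheaf.germ W x hx t) : s = t :=
  TopCat.Presheaf.section_ext ⟨M.presheaf, M.isSheaf⟩ _ _ _ h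

omit [F.IsQuasicoherent] in
lemma rel_add {x : X} {z z' : F.presheaf.stalk x} {w w' : G.presheaf.stalk x}
    (h : Rel v x z w) (h' : Rel v x z' w') : Rel v x (z + z') (w + w') := by
  obtain ⟨U₁, hU₁, hx₁, r₁, a₁, hr₁, hz₁, hw₁⟩ := h
  obtain ⟨U₂, hU₂, hx₂, r₂, a₂, hr₂, hz₂, hw₂⟩ := h'
  obtain ⟨V, hV, hxV, hVU⟩ :=
    exists_isAffineOpen_mem_and_subset (U := U₁ ⊓ U₂) (x := f x) ⟨hx₁, hx₂⟩
  have hVU₁ : V ≤ U₁ := le_trans (fun _ h ↦ hVU h) inf_le_left
  have hVU₂ : V ≤ U₂ := le_trans (fun _ h ↦ hVU h) inf_le_right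
  obtain ⟨hs₁, hzs₁, hws₁⟩ := rel_of_le v hr₁ hz₁ hw₁ hVU₁ hxV
  obtain ⟨hs₂, hzs₂, hws₂⟩ := rel_of_le v hr₂ hz₂ hw₂ hVU₂ hxV
  refine ⟨V, hV, hxV, resR (f.preimage_mono hVU₁) r₁ * resR (f.preimage_mono hVU₂) r₂,
    resR (f.preimage_mono hVU₂) r₂ • res F (f.preimage_mono hVU₁) a₁ +
      resR (f.preimage_mono hVU₁) r₁ • res F (f.preimage_mono hVU₂) a₂, ?_, ?_, ?_⟩
  · rw [Scheme.basicOpen_mul]; exact ⟨hs₁, hs₂⟩
  · rw [map_add, Modules.StalkModule.germ_smul, Modules.StalkModule.germ_smul, ← hzs₁, ← hzs₂,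
      map_mul, smul_add, smul_smul, smul_smul, mul_comm]
  · rw [map_add, comp_smul, comp_smul, map_add, Modules.StalkModule.germ_smul,
      Modules.StalkModule.germ_smul, ← hws₁, ← hws₂, map_mul, smul_add, smul_smul, smul_smul,
      mul_comm]

omit [F.IsQuasicoherent] in
lemma rel_smul {x : X} {z : F.presheaf.stalk x} {w : G.presheaf.stalk x}
    (h : Rel v x z w) (c : X.presheaf.stalk x) : Rel v x (c • z) (c • w) := by
  obtain ⟨U, hU, hx, r, a, hr, hz, hw⟩ := h
  obtain ⟨c', b, hc', hb⟩ := (by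
    letI := X.presheaf.algebra_section_stalk (⟨x, hx⟩ : ↥(f ⁻¹ᵁ U))
    haveI := (hU.preimage f).isLocalization_stalk ⟨x, hx⟩
    obtain ⟨⟨b, ⟨s, hs⟩⟩, hbs⟩ := IsLocalization.surj
      ((hU.preimage f).primeIdealOf ⟨x, hx⟩).asIdeal.primeCompl c
    exact ⟨s, b, (QCoh.Stalk.mem_primeIdealOf_compl_iff (hU.preimage f) hx s).mp hs, hbs⟩ :
    ∃ (c' b : Γ(X, f ⁻¹ᵁ U)), x ∈ X.basicOpen c' ∧
      c * X.presheaf.germ _ x hx c' = X.presheaf.germ _ x hx b)
  refine ⟨U, hU, hx, c' * r, b • a, ?_, ?_, ?_⟩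
  · rw [Scheme.basicOpen_mul]; exact ⟨hc', hr⟩
  · rw [Modules.StalkModule.germ_smul, ← hz, ← hb, map_mul, smul_smul, smul_smul]
    congr 1; ring
  · rw [comp_smul, Modules.StalkModule.germ_smul, ← hw, ← hb, map_mul, smul_smul, smul_smul]
    congr 1; ring

/-- The morphism of modules attached to a morphism of direct images. -/
def homOf : F ⟶ G where
  val := PresheafOfModules.homMk
    { app := fun W ↦ AddCommGrpCat.ofHom
        (AddMonoidHom.mk' (fun s : Γ(F, W.unop) ↦ (exists_section v s).choose) fun s s' ↦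
          section_ext_of_germ fun x hx ↦ by
            refine ((exists_section v (show Γ(F, W.unop) from s + s')).choose_spec x hx).trans ?_
            erw [map_add, map_add, (exists_section v s).choose_spec x hx,
              (exists_section v s').choose_spec x hx]
            exact stalkVal_eq v
              (rel_add v (exists_rel v x _).choose_spec (exists_rel v x _).choose_spec))
      naturality := fun W W' i ↦ by
        ext (s : Γ(F, W.unop))
        change (exists_section v (F.presheaf.map i s)).choose =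
          G.presheaf.map i (exists_section v s).choose
        refine section_ext_of_germ fun x hx ↦ ?_
        refine ((exists_section v (show Γ(F, W'.unop) from F.presheaf.map i s)).choose_spec
          x hx).trans ?_
        rw [TopCat.Presheaf.germ_res_apply' G.presheaf i x hx,
          TopCat.Presheaf.germ_res_apply' F.presheaf i x hx,
          (exists_section v s).choose_spec x _] }
    fun W r s ↦ by
      change (exists_section v ((show Γ(X, W.unop) from r) • (show Γ(F, W.unop) from s))).choose =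
        (show Γ(X, W.unop) from r) • (exists_section v (show Γ(F, W.unop) from s)).choose
      refine section_ext_of_germ fun x hx ↦ ?_
      rw [(exists_section v _).choose_spec x hx, Modules.StalkModule.germ_smul,
        Modules.StalkModule.germ_smul, (exists_section v _).choose_spec x hx]
      exact stalkVal_eq v (rel_smul v (exists_rel v x _).choose_spec _)

lemma map_homOf : (AMod.dirImg f).map (homOf v) = v := by
  apply (AMod.toOS (RelSpec.QCAlg.directImage f)).map_injective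
  apply Scheme.Modules.hom_ext
  intro U
  ext (a : Γ(F, f ⁻¹ᵁ U))
  change (exists_section v a).choose = comp v U a
  refine section_ext_of_germ fun x hx ↦ ?_
  rw [(exists_section v a).choose_spec x hx]
  obtain ⟨V, hV, hxV, hVU⟩ := exists_isAffineOpen_mem_and_subset (U := U) (x := f x) hx
  refine stalkVal_eq v ⟨V, hV, hxV, 1,
    res F (f.preimage_mono (fun _ h ↦ hVU h)) a, ?_, ?_, ?_⟩
  · rw [Scheme.basicOpen_of_isUnit X isUnit_one]; exact hxV
  · rw [map_one, one_smul, TopCat.Presheaf.germ_res_apply]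
  · rw [map_one, one_smul, comp_res v (fun _ h ↦ hVU h), TopCat.Presheaf.germ_res_apply]

lemma dirImg_map_injective :
    Function.Injective ((AMod.dirImg f).map : (F ⟶ G) → _) := by
  intro φ ψ h
  have hh : ∀ (U : S.Opens) (a : Γ(F, f ⁻¹ᵁ U)), φ.app (f ⁻¹ᵁ U) a = ψ.app (f ⁻¹ᵁ U) a :=
    fun U a ↦ congr(($h).val.app (op U) a)
  refine hom_ext_stalk fun x ↦ ?_
  ext (z : F.presheaf.stalk x)
  obtain ⟨U, hU, hxU, -⟩ := exists_isAffineOpen_mem_and_subset (U := ⊤) (x := f x) trivial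
  obtain ⟨r, a, hr, ha⟩ := QCoh.Stalk.exists_smul_eq_germ F (hU.preimage f) hxU z
  change Modules.StalkModule.stalkMapₗ φ x z = Modules.StalkModule.stalkMapₗ ψ x z
  apply ((RingedSpace.mem_basicOpen _ r x hxU).mp hr).smul_left_cancel.mp
  rw [← map_smul, ← map_smul, ha, Modules.StalkModule.stalkMapₗ_germ,
    Modules.StalkModule.stalkMapₗ_germ, hh]

theorem dirImg_map_bijective :
    Function.Bijective ((AMod.dirImg f).map : (F ⟶ G) → _) :=
  ⟨dirImg_map_injective, fun v ↦ ⟨homOf v, map_homOf v⟩⟩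

end Hom

end

end Groth.Agent.Lib.RelSpecBasics.DirImg
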